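import Cfsg.Agent.Lib.Schur.Asm
import Cfsg.Agent.Lib.CGT.M24

/-! Generated by tools/schur: bounds on the Schur multiplier of M23. -/

set_option autoImplicit false
set_option maxRecDepth 100000

namespace H60.M23

open Cfsg

noncomputable def d2 : H60.Pc := ⟨2, 7, 0x7180c0001c50300007100c0001c30300007080c0001c103000001c060000000000006140c00018403000060c0c00718204801c6041200000601800001c0600714404801c50c1200714204801850412000005018000000001c61030600004080c00710104800001006000007018014308120050c104800000c06000007018010204120000020180006100c00000101800000000,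
  34, 0x3ffffffff, 14, 1, 6, 63, 42, 42, 0x3ffffffffff, 4,
  [0x7000000000180000000005000000000100000000002000000003040000000000, 0x7000000000180000000005000000000100000000003000000002040000000000, 0x7000000000180000000005000000000100000000003000000002040000000000, 0x1c0000000006000000000100000000002000000005040000000000],
  [0x70000071851000001851020000000060800000001851c61440c2040000000000, 0x60000000001c00001c61030000051020400071840810061440c2040000000000, 0x60000000071800000030810000001c61000001840810000071850c0000000000, 0x7100000185081000000000100000000141000000000080000000000]⟩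
noncomputable def d2a : H60.Lp := ⟨2, 1, 1, 6, 68⟩
theorem d2a_fmt : H60.fmtOk d2 d2a 26 = true := by decide +kernel
noncomputable def d2a_r0 : H60.Rels :=
  .cons 0 2 130 0x40000000 <|
  .cons 0 3 195 0x80000000 <|
  .cons 0 5 325 0x200000000 <|
  .cons 0 5 260 0x900000000 <|
  .cons 0 4 130 0x100000000 <|
  .cons 0 6 195 0x400000000 <|
  .cons 0 1 65 0xc00400800 <|
  .cons 0 4 65 0x822000000 <|
  .cons 0 4 196 0xd0a000000 <|
  .cons 0 2 66 0x20005000 <|
  .cons 0 3 67 0xa20140000 <|
  .cons 0 5 69 0x2c000000 <|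
  .cons 0 3 131 0xa40140000 <|
  .cons 0 3 130 0x880120000 <|
  .cons 0 4 195 0xd89000000 <|
  .cons 0 5 65 0x40c480000 <|
  .cons 0 2 65 0x800805800 <|
  .cons 0 3 65 0xc09112000 <|
  .cons 1 195 0 0xc08804020 <|
  .cons 1 131 194 0xc04821000 <|
  .cons 2 260 6 0x4000089106200 <|
  .cons 2 130 6 0x4000c28c00a34 <|
  .cons 2 132 24834 0x4000eabd63980 <|
  .cons 3 130 6 0x400000148c00a34 <|
  .cons 3 196 24835 0x400000469c83800 <|
  .cons 4 325 0 0x100004000 <|
  .nil
theorem d2a_r0_ok : H60.relsOk d2 d2a d2a_r0 = true := by decide +kernel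
noncomputable def d2a_W : List ℕ := d2a_r0.ws
theorem d2a_cert : H60.Certified d2 d2a d2a_W := H60.certified_of d2a_r0_ok
noncomputable def d2a_A : List ℕ := []
noncomputable def d2a_C : List ℕ := [0, 0, 0, 0, 16, 128, 20, 32]
noncomputable def d2a_X : List ℕ := [0, 0, 0, 0, 0, 0, 0, 0, 0x3e9856a, 0x1bdb629, 0, 0x2050380, 0x2001611, 0x387e4b, 0x2000010, 0, 0x361443, 788992, 801287, 0x2059fd9, 797210, 0, 0x20503f8, 0x2041599, 21915, 5273, 2480, 5553, 0, 5121, 1, 2, 16, 4, 32, 24]
theorem d2a_rows : H60.RowsDone d2 d2a d2a_W d2a_C d2a_X := H60.rowsDone_of (by decide +kernel)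
noncomputable def d2_g : H54.Tr := (.node 3 (.node 1 (.node 0 (.leaf 0x17161514131211100f0e0d0c0b0a09080706050403020100)
 (.leaf 0x17130c100f0d021407050b080a12090616150e0411010300))
 (.node 2 (.leaf 0x170e011009120814050f0a030b0d0715040c161302061100)
 (.leaf 0x17010714150a1310080c0b050d12031611090206040e0f00)))
 (.node 5 (.node 4 (.leaf 0x17131514160b111007090a02120d0e080f030405060c0100)
 (.leaf 0x170402140e0b0c1009070a15120d16060501130f08110300))
 (.node 6 (.leaf 0x170708140f12011013090d030b0a0e15160204050c061100)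
 (.leaf 0x170f11140712151016050d020b0a040113030e09060c0800))))
noncomputable def d2_h : H54.Tr := (.node 1 (.node 0 (.leaf 0x170406121614030b09130d01100a05150f02070e0c081100)
 (.leaf 0x17070e100f0b0914160812060a0d0105130c151103020400))
 (.node 2 (.leaf 0x170e1300050a0f1409150b0c0d1201160402081106030710)
 (.leaf 0x170915140e0211100513030b0c061608040a0f070d120100)))
noncomputable def d2_l : H60.Lvs :=
  .cons 16 [0, 2] <|
  .cons 10 [0, 323, 5, 3] <|
  .cons 1 [0, 24900, 28996, 0x1c6103081, 0x7103081, 324, 0x1c6143081, 7, 0x6103081, 0x1c6144, 0x103081, 0x143081, 6, 0x6143081, 454, 0x7143081] <|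
  .nil
theorem d2_memb : H60.membT H54.c24 H54.chM23 d2_g d2_h d2 = true := by decide +kernel
theorem d2_rules : H60.rulesOk (H60.actT H54.c24 d2_g) H54.chM23.baseList d2 0 (d2.n + 1) = true := by decide +kernel
theorem d2_fus : H60.fusOk (H60.actT H54.c24 d2_g) (H60.actT H54.c24 d2_h) H54.chM23.baseList d2 = true := by decide +kernel
theorem d2_low : H60.lowT H54.c24 d2_g d2 d2_l = true := by decide +kernel
theorem d2_real : d2.Real ↥Spor.M23 :=
  H60.real_of_chain_id H54.X24 (H54.K24_sub Spor.M23) H54.goodTop_M23 d2a_fmt d2_memb d2_rules d2_fus d2_low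
theorem d2_exp : H60.ExpB ↥Spor.M23 2 0 :=
  H60.expB_of_cert d2a_fmt d2_real 79695 (H15.card_M23.trans (by decide +kernel)) (by decide +kernel) 0 rfl rfl
    (by decide +kernel) d2a_cert rfl d2a_rows

noncomputable def d3 : H60.Pc := ⟨3, 2, 0x2040c0020180000000101800000,
  22, 0x3fffff, 11, 65, 12, 4095, 14, 24, 0xffffff, 2,
  [0x2000001000000, 0x2000001000000],
  [0x2041082041000000, 0x1002041000000]⟩
noncomputable def d3a : H60.Lp := ⟨3, 1, 2, 5, 12⟩
theorem d3a_fmt : H60.fmtOk d3 d3a 3 = true := by decide +kernel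
noncomputable def d3a_r0 : H60.Rels :=
  .cons 1 8322 0 32 <|
  .cons 1 4161 0 2064 <|
  .cons 2 66 129 256 <|
  .nil
theorem d3a_r0_ok : H60.relsOk d3 d3a d3a_r0 = true := by decide +kernel
noncomputable def d3a_W : List ℕ := d3a_r0.ws
theorem d3a_cert : H60.Certified d3 d3a d3a_W := H60.certified_of d3a_r0_ok
noncomputable def d3a_A : List ℕ := []
noncomputable def d3a_C : List ℕ := [0, 0, 0]
noncomputable def d3a_X : List ℕ := [0, 0, 2, 0, 16, 10]
theorem d3a_rows : H60.RowsDone d3 d3a d3a_W d3a_C d3a_X := H60.rowsDone_of (by decide +kernel)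
noncomputable def d3_g : H54.Tr := (.node 0 (.leaf 0x17161514131211100f0e0d0c0b0a09080706050403020100)
 (.node 1 (.leaf 0x1711160f041215030a060e0b0814090c100d130507020100)
 (.leaf 0x1711160c0509150f0b0e0d0710080203140604130a120100)))
noncomputable def d3_h : H54.Tr := (.node 0 (.leaf 0x170d0e100904060f0c151114030a050b0816021207130100)
 (.leaf 0x171305080d1604071012020c0314110f0b090e060a150001))
noncomputable def d3_l : H60.Lvs :=
  .cons 2 [0, 130, 2] <|
  .cons 3 [0, 1, 65] <|
  .nil
theorem d3_memb : H60.membT H54.c24 H54.chM23 d3_g d3_h d3 = true := by decide +kernel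
theorem d3_rules : H60.rulesOk (H60.actT H54.c24 d3_g) H54.chM23.baseList d3 0 (d3.n + 1) = true := by decide +kernel
theorem d3_fus : H60.fusOk (H60.actT H54.c24 d3_g) (H60.actT H54.c24 d3_h) H54.chM23.baseList d3 = true := by decide +kernel
theorem d3_low : H60.lowT H54.c24 d3_g d3 d3_l = true := by decide +kernel
theorem d3_real : d3.Real ↥Spor.M23 :=
  H60.real_of_chain_id H54.X24 (H54.K24_sub Spor.M23) H54.goodTop_M23 d3a_fmt d3_memb d3_rules d3_fus d3_low
theorem d3_exp : H60.ExpB ↥Spor.M23 3 0 :=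
  H60.expB_of_cert d3a_fmt d3_real 1133440 (H15.card_M23.trans (by decide +kernel)) (by decide +kernel) 0 rfl rfl
    (by decide +kernel) d3a_cert rfl d3a_rows

end H60.M23
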