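import Cfsg.Agent.Lib.Schur.Asm
import Cfsg.Agent.Lib.CGT.M24

/-! Generated by tools/schur: bounds on the Schur multiplier of M21. -/

set_option autoImplicit false
set_option maxRecDepth 100000

namespace H60.M21

open Cfsg

noncomputable def d2 : H60.Pc := ⟨2, 6, 0x6140c00018403000060c0c0001820300006040c0000060180000000000014403000050c0c0001420300005040c0000050180000000000510304861440818000101030000010060001850300003080c0060c104800000c06000005018014204120000020180000000000000101800000000,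
  34, 0x3ffffffff, 17, 1, 6, 63, 36, 24, 0xffffff, 3,
  [0x6000005000004000003000002000001000000, 0x6000005000004000001000000, 0x60000050040c20040c1000000],
  [0x1850000060051010001420050c2000184000000, 0x5101000001000184000004000000, 0x60811840c21850811440c2000000]⟩
noncomputable def d2a : H60.Lp := ⟨2, 1, 1, 6, 49⟩
theorem d2a_fmt : H60.fmtOk d2 d2a 21 = true := by decide +kernel
noncomputable def d2a_r0 : H60.Rels :=
  .cons 0 2 130 131072 <|
  .cons 0 2 65 0x110000 <|
  .cons 0 3 65 0x8400000 <|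
  .cons 0 3 130 262144 <|
  .cons 0 6 130 0x4000000 <|
  .cons 0 3 195 0x1040000 <|
  .cons 0 4 196 0x180000 <|
  .cons 0 3 131 0x820000 <|
  .cons 0 4 132 0xe180000 <|
  .cons 0 3 67 0x9410000 <|
  .cons 0 4 130 0xc9a0000 <|
  .cons 1 65 0 0xa004004 <|
  .cons 1 260 0 0x190804 <|
  .cons 1 195 389 0x60c120220 <|
  .cons 1 130 5 0x204060300 <|
  .cons 1 67 24769 0x408981080 <|
  .cons 1 66 20609 0x2089c3010 <|
  .cons 2 195 0 0x100004 <|
  .cons 3 260 0 0xd20034 <|
  .nil
theorem d2a_r0_ok : H60.relsOk d2 d2a d2a_r0 = true := by decide +kernel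
noncomputable def d2a_W : List ℕ := d2a_r0.ws
theorem d2a_cert : H60.Certified d2 d2a d2a_W := H60.certified_of d2a_r0_ok
noncomputable def d2a_A : List ℕ := [256, 656]
noncomputable def d2a_C : List ℕ := [0, 0, 0, 0, 0, 16, 128]
noncomputable def d2a_X : List ℕ := [0, 0, 526520, 0, 0, 0x181150, 0, 0, 1, 2, 0, 540936, 0x1b9acd, 0x1e8ace, 536056, 0, 2224, 4, 32, 2488, 2232, 0, 4944, 516, 160, 5632, 64, 4928]
theorem d2a_rows : H60.RowsDone d2 d2a (d2a_A ++ d2a_W) d2a_C d2a_X := H60.rowsDone_of (by decide +kernel)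
noncomputable def d2b : H60.Lp := ⟨8, 4, 3, 6, 49⟩
theorem d2b_fmt : H60.fmtOk d2 d2b 18 = true := by decide +kernel
noncomputable def d2b_r0 : H60.Rels :=
  .cons 0 5 65 0x2000000000000 <|
  .cons 0 6 65 0x80000000000000000 <|
  .cons 0 5 260 0x400000000000000 <|
  .cons 0 2 130 0x8000000000000 <|
  .cons 0 5 197 0x180000000000000 <|
  .cons 0 2 65 0x1001000000002000 <|
  .cons 0 3 65 0x200040000000000400000 <|
  .cons 0 3 130 0x40000002000000 <|
  .cons 0 6 130 0x1c0400000000000000000 <|
  .cons 0 3 195 0x1000040000000000000 <|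
  .cons 0 4 196 0x7e00030000000000 <|
  .cons 0 3 131 0x200008000006000000 <|
  .cons 0 4 132 0xff8007e00006000000000 <|
  .cons 0 3 67 0xe07040001000000c00000 <|
  .cons 0 4 130 0x240201208002000000000 <|
  .cons 0 4 66 0x1c0040201000000000000 <|
  .cons 2 67 193 0x7000e00000000 <|
  .cons 3 196 259 0xf813c7ff8007e07e07000 <|
  .nil
theorem d2b_r0_ok : H60.relsOk d2 d2b d2b_r0 = true := by decide +kernel
noncomputable def d2b_W : List ℕ := d2b_r0.ws
theorem d2b_cert : H60.Certified d2 d2b d2b_W := H60.certified_of d2b_r0_ok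
noncomputable def d2b_A : List ℕ := []
noncomputable def d2b_C : List ℕ := [0, 128, 90112, 0x10c06000, 0x80000000000, 16384, 0x800000]
noncomputable def d2b_X : List ℕ := [0, 0, 0, 0, 0, 0, 0, 0, 0x405000, 0, 0, 0x4020020900020, 0xda0420d950a6, 0x32fe06b44cd867, 0, 0, 0x20020900020, 2048, 0x800000, 0x20120920020, 0x20020920020, 0, 0x100904100000, 0x800000800, 0x20800000, 0x104800000000, 0x4000000, 0x100904000000]
theorem d2b_rows : H60.RowsDone d2 d2b d2b_W d2b_C d2b_X := H60.rowsDone_of (by decide +kernel)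
noncomputable def d2_g : H54.Tr := (.node 2 (.node 0 (.leaf 0x17161514131211100f0e0d0c0b0a09080706050403020100)
 (.node 1 (.leaf 0x1710130915120e160a11040c0b0f14080607030d05020100)
 (.leaf 0x17060d0916110b150a1207030e0f140510040c1308020100)))
 (.node 4 (.node 3 (.leaf 0x17110c0a12071005090d030615140f13080b160e04020100)
 (.leaf 0x1710150f130b03161405040812090a0c07060e0d11020100))
 (.node 5 (.leaf 0x17040714060b0e0d0f111008120a090c1513031605020100)
 (.leaf 0x170d1314150c03040f051612080a090b06070e1011020100))))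
noncomputable def d2_h : H54.Tr := (.node 0 (.leaf 0x17160b140c0513040a1510110e090f030812060d07020100)
 (.node 1 (.leaf 0x170f0e0c05150d140b040906131208071103160a10020100)
 (.leaf 0x171003020b0d0511090615070c0a0f0e1304160812140100)))
noncomputable def d2_l : H60.Lvs :=
  .cons 9 [0, 4, 3, 259] <|
  .cons 3 [0, 0x1440c1, 5, 0x61440c2, 0x1440c2, 129, 24705, 20609, 0x1840c1, 389, 0x61440c1, 6, 0x185081, 0x1840c2, 16578, 16577] <|
  .nil
theorem d2_memb : H60.membT H54.c24 H54.chM21 d2_g d2_h d2 = true := by decide +kernel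
theorem d2_rules : H60.rulesOk (H60.actT H54.c24 d2_g) H54.chM21.baseList d2 0 (d2.n + 1) = true := by decide +kernel
theorem d2_fus : H60.fusOk (H60.actT H54.c24 d2_g) (H60.actT H54.c24 d2_h) H54.chM21.baseList d2 = true := by decide +kernel
theorem d2_low : H60.lowT H54.c24 d2_g d2 d2_l = true := by decide +kernel
theorem d2_real : d2.Real ↥H15.M21 :=
  H60.real_of_chain_id H54.X24 (H54.K24_sub H15.M21) H54.goodTop_M21 d2a_fmt d2_memb d2_rules d2_fus d2_low
theorem d2_gen : H60.GenB ↥H15.M21 2 2 :=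
  H60.genB_of_cert d2a_fmt d2_real 315 (H15.card_M21.trans (by decide +kernel)) (by decide +kernel) rfl rfl
    (As := d2a_A) (by decide +kernel) d2a_cert rfl d2a_rows
theorem d2_exp : H60.ExpB ↥H15.M21 2 2 :=
  H60.expB_of_cert d2b_fmt d2_real 315 (H15.card_M21.trans (by decide +kernel)) (by decide +kernel) 2 rfl rfl
    (by decide +kernel) d2b_cert rfl d2b_rows

noncomputable def d3 : H60.Pc := ⟨3, 2, 0x2040c0020180000000101800000,
  22, 0x3fffff, 14, 65, 12, 4095, 9, 18, 262143, 1,
  [0x2000040000],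
  [0x2081002040000]⟩
noncomputable def d3a : H60.Lp := ⟨3, 1, 2, 5, 9⟩
theorem d3a_fmt : H60.fmtOk d3 d3a 3 = true := by decide +kernel
noncomputable def d3a_r0 : H60.Rels :=
  .cons 1 4161 0 1024 <|
  .cons 1 8322 0 1040 <|
  .nil
theorem d3a_r0_ok : H60.relsOk d3 d3a d3a_r0 = true := by decide +kernel
noncomputable def d3a_W : List ℕ := d3a_r0.ws
theorem d3a_cert : H60.Certified d3 d3a d3a_W := H60.certified_of d3a_r0_ok
noncomputable def d3a_A : List ℕ := [256]
noncomputable def d3a_C : List ℕ := [0, 0, 0]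
noncomputable def d3a_X : List ℕ := [0, 0, 24, 0, 1, 4]
theorem d3a_rows : H60.RowsDone d3 d3a (d3a_A ++ d3a_W) d3a_C d3a_X := H60.rowsDone_of (by decide +kernel)
noncomputable def d3b : H60.Lp := ⟨9, 3, 4, 5, 9⟩
theorem d3b_fmt : H60.fmtOk d3 d3b 1 = true := by decide +kernel
noncomputable def d3b_r0 : H60.Rels :=
  .cons 0 130 66 393216 <|
  .nil
theorem d3b_r0_ok : H60.relsOk d3 d3b d3b_r0 = true := by decide +kernel
noncomputable def d3b_W : List ℕ := d3b_r0.ws
theorem d3b_cert : H60.Certified d3 d3b d3b_W := H60.certified_of d3b_r0_ok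
noncomputable def d3b_A : List ℕ := []
noncomputable def d3b_C : List ℕ := [0, 256, 0x100000]
noncomputable def d3b_X : List ℕ := [0, 0, 0, 0, 8, 0]
theorem d3b_rows : H60.RowsDone d3 d3b d3b_W d3b_C d3b_X := H60.rowsDone_of (by decide +kernel)
noncomputable def d3_g : H54.Tr := (.node 0 (.leaf 0x17161514131211100f0e0d0c0b0a09080706050403020100)
 (.node 1 (.leaf 0x1710150e070f040a080305110d16091202060b0c14130100)
 (.leaf 0x17160903050f071008140413110a06120b150c020e0d0100)))
noncomputable def d3_h : H54.Tr := (.leaf 0x17121415070a110816090b05130f03100d0e0402060c0100)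
noncomputable def d3_l : H60.Lvs :=
  .cons 3 [0, 2, 130] <|
  .cons 2 [0, 129, 532545] <|
  .nil
theorem d3_memb : H60.membT H54.c24 H54.chM21 d3_g d3_h d3 = true := by decide +kernel
theorem d3_rules : H60.rulesOk (H60.actT H54.c24 d3_g) H54.chM21.baseList d3 0 (d3.n + 1) = true := by decide +kernel
theorem d3_fus : H60.fusOk (H60.actT H54.c24 d3_g) (H60.actT H54.c24 d3_h) H54.chM21.baseList d3 = true := by decide +kernel
theorem d3_low : H60.lowT H54.c24 d3_g d3 d3_l = true := by decide +kernel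
theorem d3_real : d3.Real ↥H15.M21 :=
  H60.real_of_chain_id H54.X24 (H54.K24_sub H15.M21) H54.goodTop_M21 d3a_fmt d3_memb d3_rules d3_fus d3_low
theorem d3_gen : H60.GenB ↥H15.M21 3 1 :=
  H60.genB_of_cert d3a_fmt d3_real 2240 (H15.card_M21.trans (by decide +kernel)) (by decide +kernel) rfl rfl
    (As := d3a_A) (by decide +kernel) d3a_cert rfl d3a_rows
theorem d3_exp : H60.ExpB ↥H15.M21 3 1 :=
  H60.expB_of_cert d3b_fmt d3_real 2240 (H15.card_M21.trans (by decide +kernel)) (by decide +kernel) 1 rfl rfl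
    (by decide +kernel) d3b_cert rfl d3b_rows

end H60.M21
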