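import Cfsg.Agent.Lib.Schur.Asm
import Cfsg.Agent.Lib.CGT.M24

/-! Generated by tools/schur: bounds on the Schur multiplier of M11. -/

set_option autoImplicit false
set_option maxRecDepth 100000

namespace H60.M11

open Cfsg

noncomputable def d2 : H60.Pc := ⟨2, 4, 0x40c0c004080c004040c00010060001006103081210304120000c0600010060c204120000806000000000004060000000,
  28, 0xfffffff, 11, 1, 6, 63, 15, 18, 262143, 2,
  [0x100003000080000, 0x4003040000],
  [0x1000020040c0000, 0xc1103040000]⟩
noncomputable def d2a : H60.Lp := ⟨2, 1, 1, 5, 25⟩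
theorem d2a_fmt : H60.fmtOk d2 d2a 9 = true := by decide +kernel
noncomputable def d2a_r0 : H60.Rels :=
  .cons 0 2 130 4096 <|
  .cons 0 3 195 8192 <|
  .cons 0 3 65 18432 <|
  .cons 0 2 65 17024 <|
  .cons 0 3 130 28672 <|
  .cons 0 2 66 27392 <|
  .cons 1 130 3 262688 <|
  .cons 1 66 12417 282624 <|
  .cons 2 130 0 8836 <|
  .nil
theorem d2a_r0_ok : H60.relsOk d2 d2a d2a_r0 = true := by decide +kernel
noncomputable def d2a_W : List ℕ := d2a_r0.ws
theorem d2a_cert : H60.Certified d2 d2a d2a_W := H60.certified_of d2a_r0_ok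
noncomputable def d2a_A : List ℕ := []
noncomputable def d2a_C : List ℕ := [0, 0, 0, 16, 32]
noncomputable def d2a_X : List ℕ := [0, 0, 281, 0, 0, 0, 0, 201, 244, 210, 0, 23, 1, 2, 19]
theorem d2a_rows : H60.RowsDone d2 d2a d2a_W d2a_C d2a_X := H60.rowsDone_of (by decide +kernel)
noncomputable def d2_g : H54.Tr := (.node 1 (.node 0 (.leaf 0x17161514131211100f0e0d0c0b0a09080706050403020100)
 (.leaf 0xa070f0e1309110c151403100b171208160605020d040100))
 (.node 2 (.leaf 0x1314110717080e10160b090c150503040f120a06020d0100)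
 (.node 3 (.leaf 0xa0b140e05021610150f080c07171203110d130906040100)
 (.leaf 0x17070e0f13040b101415030c110a0206160805120d090100))))
noncomputable def d2_h : H54.Tr := (.node 0 (.leaf 0x13140b15050216010e11060c071703120f040a09080d1000)
 (.leaf 0x171105150f100b090e130602160a120d0708140c03040100))
noncomputable def d2_l : H60.Lvs :=
  .cons 12 [0, 1] <|
  .cons 5 [0, 2, 3, 194] <|
  .cons 2 [0, 4] <|
  .nil
theorem d2_memb : H60.membT H54.c24 H54.chM11 d2_g d2_h d2 = true := by decide +kernel
theorem d2_rules : H60.rulesOk (H60.actT H54.c24 d2_g) H54.chM11.baseList d2 0 (d2.n + 1) = true := by decide +kernel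
theorem d2_fus : H60.fusOk (H60.actT H54.c24 d2_g) (H60.actT H54.c24 d2_h) H54.chM11.baseList d2 = true := by decide +kernel
theorem d2_low : H60.lowT H54.c24 d2_g d2 d2_l = true := by decide +kernel
theorem d2_real : d2.Real ↥Spor.M11 :=
  H60.real_of_chain_id H54.X24 (H54.K24_sub Spor.M11) H54.goodTop_M11 d2a_fmt d2_memb d2_rules d2_fus d2_low
theorem d2_exp : H60.ExpB ↥Spor.M11 2 0 :=
  H60.expB_of_cert d2a_fmt d2_real 495 (H15.card_M11.trans (by decide +kernel)) (by decide +kernel) 0 rfl rfl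
    (by decide +kernel) d2a_cert rfl d2a_rows

noncomputable def d3 : H60.Pc := ⟨3, 2, 0x2040c0020180000000101800000,
  22, 0x3fffff, 11, 65, 12, 4095, 9, 24, 0xffffff, 2,
  [0x2000001000000, 0x2000001000000],
  [0x2081000081000000, 0x82041000001000000]⟩
noncomputable def d3a : H60.Lp := ⟨3, 1, 2, 5, 12⟩
theorem d3a_fmt : H60.fmtOk d3 d3a 3 = true := by decide +kernel
noncomputable def d3a_r0 : H60.Rels :=
  .cons 1 4161 0 1024 <|
  .cons 1 8322 0 1040 <|
  .cons 2 66 129 256 <|
  .nil
theorem d3a_r0_ok : H60.relsOk d3 d3a d3a_r0 = true := by decide +kernel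
noncomputable def d3a_W : List ℕ := d3a_r0.ws
theorem d3a_cert : H60.Certified d3 d3a d3a_W := H60.certified_of d3a_r0_ok
noncomputable def d3a_A : List ℕ := []
noncomputable def d3a_C : List ℕ := [0, 0, 0]
noncomputable def d3a_X : List ℕ := [0, 0, 6, 0, 16, 1]
theorem d3a_rows : H60.RowsDone d3 d3a d3a_W d3a_C d3a_X := H60.rowsDone_of (by decide +kernel)
noncomputable def d3_g : H54.Tr := (.node 0 (.leaf 0x17161514131211100f0e0d0c0b0a09080706050403020100)
 (.node 1 (.leaf 0x1716140e0f08070d051504120b11030c0a09131006020100)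
 (.leaf 0x160b0e150f10110605140904170a080d071213030c020100)))
noncomputable def d3_h : H54.Tr := (.node 0 (.leaf 0x14150b17070813030a1612060e0f09040510110d0c020100)
 (.leaf 0x16170a1105060e04130710030b140c0915080f0d12010200))
noncomputable def d3_l : H60.Lvs :=
  .cons 5 [0, 130, 2] <|
  .cons 3 [0, 8257, 8321] <|
  .nil
theorem d3_memb : H60.membT H54.c24 H54.chM11 d3_g d3_h d3 = true := by decide +kernel
theorem d3_rules : H60.rulesOk (H60.actT H54.c24 d3_g) H54.chM11.baseList d3 0 (d3.n + 1) = true := by decide +kernel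
theorem d3_fus : H60.fusOk (H60.actT H54.c24 d3_g) (H60.actT H54.c24 d3_h) H54.chM11.baseList d3 = true := by decide +kernel
theorem d3_low : H60.lowT H54.c24 d3_g d3 d3_l = true := by decide +kernel
theorem d3_real : d3.Real ↥Spor.M11 :=
  H60.real_of_chain_id H54.X24 (H54.K24_sub Spor.M11) H54.goodTop_M11 d3a_fmt d3_memb d3_rules d3_fus d3_low
theorem d3_exp : H60.ExpB ↥Spor.M11 3 0 :=
  H60.expB_of_cert d3a_fmt d3_real 880 (H15.card_M11.trans (by decide +kernel)) (by decide +kernel) 0 rfl rfl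
    (by decide +kernel) d3a_cert rfl d3a_rows

end H60.M11
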