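import Cfsg.Agent.Lib.Schur.Asm
import Cfsg.Agent.Lib.CGT.M24

/-! Generated by tools/schur: bounds on the Schur multiplier of M12. -/

set_option autoImplicit false
set_option maxRecDepth 100000

namespace H60.M12

open Cfsg

noncomputable def d2 : H60.Pc := ⟨2, 6, 0x6140c006100c0060c0c006080c006040c00018060000000005100c0050c0c1850812005040c000140600018061840c121840812184041200010060000000003080c14304120000c06000180610204120000806000000000004060000000,
  28, 0xfffffff, 14, 1, 6, 63, 19, 24, 0xffffff, 2,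
  [0x6000005000004000003000002000000, 0x6000005000004000003000001000000],
  [0x6005103000002000142000102000000, 0x1850000061440c1000003005103000000]⟩
noncomputable def d2a : H60.Lp := ⟨2, 1, 1, 5, 42⟩
theorem d2a_fmt : H60.fmtOk d2 d2a 19 = true := by decide +kernel
noncomputable def d2a_r0 : H60.Rels :=
  .cons 0 2 130 0x800000 <|
  .cons 0 4 260 0x2000000 <|
  .cons 0 3 65 0x110000 <|
  .cons 0 4 65 0x8400000 <|
  .cons 0 4 195 0x9000000 <|
  .cons 0 3 130 0x1000000 <|
  .cons 0 5 260 0x4000000 <|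
  .cons 0 2 65 0x8004800 <|
  .cons 0 3 67 0x140000 <|
  .cons 0 2 66 0xa405000 <|
  .cons 0 5 66 0x2480000 <|
  .cons 0 3 66 0x60a2000 <|
  .cons 1 195 5 0x200004020 <|
  .cons 1 130 0 0xc120220 <|
  .cons 1 65 5 0x20a005000 <|
  .cons 1 196 259 0xc0a1100 <|
  .cons 2 260 0 0x8100000 <|
  .cons 2 65 0 0xa1c6204 <|
  .nil
theorem d2a_r0_ok : H60.relsOk d2 d2a d2a_r0 = true := by decide +kernel
noncomputable def d2a_W : List ℕ := d2a_r0.ws
theorem d2a_cert : H60.Certified d2 d2a d2a_W := H60.certified_of d2a_r0_ok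
noncomputable def d2a_A : List ℕ := [256]
noncomputable def d2a_C : List ℕ := [0, 0, 0, 0, 16, 128, 32]
noncomputable def d2a_X : List ℕ := [0, 0, 456208, 0, 0, 0, 0, 0, 1, 256113, 0, 42256, 41060, 110593, 42096, 0, 131176, 108785, 131680, 2164, 131168, 0, 112, 2, 64, 4, 128, 96]
theorem d2a_rows : H60.RowsDone d2 d2a (d2a_A ++ d2a_W) d2a_C d2a_X := H60.rowsDone_of (by decide +kernel)
noncomputable def d2b : H60.Lp := ⟨4, 2, 2, 5, 42⟩
theorem d2b_fmt : H60.fmtOk d2 d2b 16 = true := by decide +kernel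
noncomputable def d2b_r0 : H60.Rels :=
  .cons 0 2 130 0x400000000000 <|
  .cons 0 4 260 0x4000000000000 <|
  .cons 0 3 131 131072 <|
  .cons 0 3 65 0x10100008000 <|
  .cons 0 4 65 0x40100000800000 <|
  .cons 0 4 195 0x41000008000000 <|
  .cons 0 3 130 0x1000000020000 <|
  .cons 0 5 260 0x10008000000000 <|
  .cons 0 2 65 0x40000010400200 <|
  .cons 0 3 67 0x33000008000 <|
  .cons 0 4 130 0x44400002000000 <|
  .cons 0 2 66 0xcc100033000200 <|
  .cons 0 5 66 0xc10c000000000 <|
  .cons 0 3 66 0x1c00cc04000000 <|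
  .cons 1 196 259 0x5000c401010000 <|
  .cons 2 132 258 0x1003000000000 <|
  .nil
theorem d2b_r0_ok : H60.relsOk d2 d2b d2b_r0 = true := by decide +kernel
noncomputable def d2b_W : List ℕ := d2b_r0.ws
theorem d2b_cert : H60.Certified d2 d2b d2b_W := H60.certified_of d2b_r0_ok
noncomputable def d2b_A : List ℕ := []
noncomputable def d2b_C : List ℕ := [0, 16, 0x400c00, 262144, 512, 32768, 0x800000]
noncomputable def d2b_X : List ℕ := [0, 0, 0, 0, 0, 0, 0, 0, 48, 0, 0, 0, 0xa20202, 0x28a22a3a, 141312, 0, 0x80082080, 0x22a2803a, 0x80002000, 0x2002a08, 0x80082000, 0, 10752, 2, 8192, 8, 32768, 10240]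
theorem d2b_rows : H60.RowsDone d2 d2b d2b_W d2b_C d2b_X := H60.rowsDone_of (by decide +kernel)
noncomputable def d2_g : H54.Tr := (.node 2 (.node 0 (.leaf 0x17161514131211100f0e0d0c0b0a09080706050403020100)
 (.node 1 (.leaf 0xb130714161211040f0a0600170e0308150d05100902010c)
 (.leaf 0x140b110e0a12150007050d08131610030f06170901020c04)))
 (.node 4 (.node 3 (.leaf 0xb05111314061508070a0209170e0c100f121601000d0403)
 (.leaf 0xa14071305120f08110b0d09170e0304150616010002100c))
 (.node 5 (.leaf 0x1713070516020f04110e060c0b0a0901150d141003120800)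
 (.leaf 0xe131505161211040f170d030a0b0001070614100c020809))))
noncomputable def d2_h : H54.Tr := (.node 0 (.leaf 0x16140f0e05061500111312030a0b0104070d17090c021008)
 (.leaf 0x1117050a0e081600130f040215070d0314100b0912010c06))
noncomputable def d2_l : H60.Lvs :=
  .cons 2 [0, 323, 3, 5] <|
  .cons 6 [0, 1] <|
  .cons 7 [0, 2, 258, 4] <|
  .cons 0 [0, 6] <|
  .nil
theorem d2_memb : H60.membT H54.c24 H54.chM12 d2_g d2_h d2 = true := by decide +kernel
theorem d2_rules : H60.rulesOk (H60.actT H54.c24 d2_g) H54.chM12.baseList d2 0 (d2.n + 1) = true := by decide +kernel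
theorem d2_fus : H60.fusOk (H60.actT H54.c24 d2_g) (H60.actT H54.c24 d2_h) H54.chM12.baseList d2 = true := by decide +kernel
theorem d2_low : H60.lowT H54.c24 d2_g d2 d2_l = true := by decide +kernel
theorem d2_real : d2.Real ↥Spor.M12 :=
  H60.real_of_chain_id H54.X24 (H54.K24_sub Spor.M12) H54.goodTop_M12 d2a_fmt d2_memb d2_rules d2_fus d2_low
theorem d2_gen : H60.GenB ↥Spor.M12 2 1 :=
  H60.genB_of_cert d2a_fmt d2_real 1485 (H15.card_M12.trans (by decide +kernel)) (by decide +kernel) rfl rfl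
    (As := d2a_A) (by decide +kernel) d2a_cert rfl d2a_rows
theorem d2_exp : H60.ExpB ↥Spor.M12 2 1 :=
  H60.expB_of_cert d2b_fmt d2_real 1485 (H15.card_M12.trans (by decide +kernel)) (by decide +kernel) 1 rfl rfl
    (by decide +kernel) d2b_cert rfl d2b_rows

noncomputable def d3 : H60.Pc := ⟨3, 3, 0x3080c003040c0000c0600000000c204120000806000000000004060000000,
  28, 0xfffffff, 12, 65, 12, 4095, 20, 24, 0xffffff, 1,
  [0x3000002000001000000],
  [0x30c3082003041000000]⟩
noncomputable def d3a : H60.Lp := ⟨3, 1, 2, 5, 14⟩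
theorem d3a_fmt : H60.fmtOk d3 d3a 5 = true := by decide +kernel
noncomputable def d3a_r0 : H60.Rels :=
  .cons 0 2 4161 262144 <|
  .cons 1 67 193 16384 <|
  .cons 1 131 194 65536 <|
  .cons 1 4161 0 262160 <|
  .cons 1 8322 0 525312 <|
  .nil
theorem d3a_r0_ok : H60.relsOk d3 d3a d3a_r0 = true := by decide +kernel
noncomputable def d3a_W : List ℕ := d3a_r0.ws
theorem d3a_cert : H60.Certified d3 d3a d3a_W := H60.certified_of d3a_r0_ok
noncomputable def d3a_A : List ℕ := []
noncomputable def d3a_C : List ℕ := [0, 0, 0, 512]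
noncomputable def d3a_X : List ℕ := [0, 0, 66, 0, 0, 257, 0, 4, 16, 1]
theorem d3a_rows : H60.RowsDone d3 d3a d3a_W d3a_C d3a_X := H60.rowsDone_of (by decide +kernel)
noncomputable def d3_g : H54.Tr := (.node 1 (.node 0 (.leaf 0x17161514131211100f0e0d0c0b0a09080706050403020100)
 (.leaf 0x160e071511020f0913170403050b000c140d0a0608011210))
 (.node 2 (.leaf 0xa1707150f01050c0e13040011160d0614030b0908120210)
 (.leaf 0xf13151405120a080b110006170e0c04070916100d020103)))
noncomputable def d3_h : H54.Tr := (.leaf 0x130b071417121110050e0c0d160a030815000f0409010206)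
noncomputable def d3_l : H60.Lvs :=
  .cons 1 [0, 2, 130] <|
  .cons 5 [0, 195, 3] <|
  .cons 0 [0, 0x3082041, 129] <|
  .nil
theorem d3_memb : H60.membT H54.c24 H54.chM12 d3_g d3_h d3 = true := by decide +kernel
theorem d3_rules : H60.rulesOk (H60.actT H54.c24 d3_g) H54.chM12.baseList d3 0 (d3.n + 1) = true := by decide +kernel
theorem d3_fus : H60.fusOk (H60.actT H54.c24 d3_g) (H60.actT H54.c24 d3_h) H54.chM12.baseList d3 = true := by decide +kernel
theorem d3_low : H60.lowT H54.c24 d3_g d3 d3_l = true := by decide +kernel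
theorem d3_real : d3.Real ↥Spor.M12 :=
  H60.real_of_chain_id H54.X24 (H54.K24_sub Spor.M12) H54.goodTop_M12 d3a_fmt d3_memb d3_rules d3_fus d3_low
theorem d3_exp : H60.ExpB ↥Spor.M12 3 0 :=
  H60.expB_of_cert d3a_fmt d3_real 3520 (H15.card_M12.trans (by decide +kernel)) (by decide +kernel) 0 rfl rfl
    (by decide +kernel) d3a_cert rfl d3a_rows

end H60.M12
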