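import Cfsg.Agent.Lib.Schur.Asm
import Cfsg.Agent.Lib.CGT.M24

/-! Generated by tools/schur: bounds on the Schur multiplier of M22. -/

set_option autoImplicit false
set_option maxRecDepth 100000

namespace H60.M22

open Cfsg

noncomputable def d2 : H60.Pc := ⟨2, 7, 0x7180c0001c50300007100c0001c30300007080c0001c103000001c060000000000006140c00018403001c60c120071820480006040c00000601800001c0600714404800050c0c00714204801850412000005018000000001c61030600004080c000101030000010060001c5030014308121840c106000000c06000007018010204120000020180000000000000101800000000,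
  34, 0x3ffffffff, 17, 1, 6, 63, 31, 30, 0x3fffffff, 3,
  [0x7000000180000005000000100000002000003040000000, 0x70000001800000050000001000000c2000000040000000, 0x1c0000006000000100000002000000040000000],
  [0x70071851000001c20071440800001c51c5103040000000, 0x60000001c00040c20001c40401851010001c6040000000, 0x1000000010000001c01c6081000000180000000]⟩
noncomputable def d2a : H60.Lp := ⟨2, 1, 1, 6, 60⟩
theorem d2a_fmt : H60.fmtOk d2 d2a 27 = true := by decide +kernel
noncomputable def d2a_r0 : H60.Rels :=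
  .cons 0 2 130 0x40000000 <|
  .cons 0 5 325 0x200000000 <|
  .cons 0 2 65 18432 <|
  .cons 0 5 65 0x8400000 <|
  .cons 0 5 260 0x900000000 <|
  .cons 0 4 130 0x100000000 <|
  .cons 0 6 325 0x400000000 <|
  .cons 0 3 195 0x80040000 <|
  .cons 0 5 197 0x80000000 <|
  .cons 0 3 65 0xa404800 <|
  .cons 0 4 196 0xd0a000000 <|
  .cons 0 6 195 0xc84000000 <|
  .cons 0 2 66 0x20005000 <|
  .cons 0 5 69 0x2c000000 <|
  .cons 0 3 130 0x880120000 <|
  .cons 0 4 195 0x589080000 <|
  .cons 0 5 66 0x822880000 <|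
  .cons 0 3 67 0x129016000 <|
  .cons 1 130 6 0x40a00100020 <|
  .cons 1 132 24834 0x40a40000000 <|
  .cons 1 325 0 0x506184000 <|
  .cons 2 195 0 0x920000804 <|
  .cons 2 130 6 0x40002084d4b24 <|
  .cons 2 131 0x1850c2 0x6000b28493000 <|
  .cons 2 68 20737 0x2000949816890 <|
  .cons 3 65 0 0x8000004 <|
  .nil
theorem d2a_r0_ok : H60.relsOk d2 d2a d2a_r0 = true := by decide +kernel
noncomputable def d2a_W : List ℕ := d2a_r0.ws
theorem d2a_cert : H60.Certified d2 d2a d2a_W := H60.certified_of d2a_r0_ok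
noncomputable def d2a_A : List ℕ := [800]
noncomputable def d2a_C : List ℕ := [0, 0, 0, 0, 16, 256, 144, 32]
noncomputable def d2a_X : List ℕ := [0, 0, 0x4000cb8, 0, 0, 0, 0, 0, 0, 1, 0, 0x44052c0, 0x4402c90, 0x3fe6f71, 0x44052c8, 0, 0x3c32593, 0x188262, 768, 0x47844f2, 0x180002, 0, 3240, 0x47a1ed2, 0x4794a8a, 1048, 4832, 3256, 0, 24152, 2, 512, 64, 4, 128, 96]
theorem d2a_rows : H60.RowsDone d2 d2a (d2a_A ++ d2a_W) d2a_C d2a_X := H60.rowsDone_of (by decide +kernel)
noncomputable def d2b : H60.Lp := ⟨8, 4, 3, 6, 60⟩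
theorem d2b_fmt : H60.fmtOk d2 d2b 23 = true := by decide +kernel
noncomputable def d2b_r0 : H60.Rels :=
  .cons 0 2 130 0x40000000000000000000000 <|
  .cons 0 5 325 0x8000000000000000000000000 <|
  .cons 0 4 132 0x6000000000 <|
  .cons 0 6 326 0x180000000000000000000 <|
  .cons 0 2 65 0x40200002000 <|
  .cons 0 5 65 0x200040002000000000000 <|
  .cons 0 5 260 0x201000000000400000000000000 <|
  .cons 0 4 130 0x1000000000000002000000000 <|
  .cons 0 6 325 0x40000080000000000000000000 <|
  .cons 0 3 195 0x200000000040000000000000 <|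
  .cons 0 5 197 0x200000000180000000000000 <|
  .cons 0 6 198 0xfc0000006000000000000000000 <|
  .cons 0 3 65 0x208040000040200400000 <|
  .cons 0 4 196 0xfc7000e38000000030000000000 <|
  .cons 0 6 195 0x2402001c2000000000000000000 <|
  .cons 0 2 66 0x60080000000001c7000006000 <|
  .cons 0 3 130 0x210200000001008000002000000 <|
  .cons 0 5 68 0x1c0008038000000000000000000 <|
  .cons 0 4 195 0x441200201000200010000000000 <|
  .cons 0 5 66 0xf80008038e00e00000000000000 <|
  .cons 0 3 67 0xd87008e07000c011f8000c00000 <|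
  .cons 1 131 194 0xe001c0000000e38007000000000 <|
  .cons 3 67 193 0x40000000000000000e00000000 <|
  .nil
theorem d2b_r0_ok : H60.relsOk d2 d2b d2b_r0 = true := by decide +kernel
noncomputable def d2b_W : List ℕ := d2b_r0.ws
theorem d2b_cert : H60.Certified d2 d2b d2b_W := H60.certified_of d2b_r0_ok
noncomputable def d2b_A : List ℕ := []
noncomputable def d2b_C : List ℕ := [0, 128, 0x30000416000, 0x30016406000, 16384, 0x4000000, 0x804000, 0x20000804000]
noncomputable def d2b_X : List ℕ := [0, 0, 0, 0, 0, 0, 0, 0, 0, 0, 0, 0x100000000004000000, 128, 0, 0x100000000004004000, 0, 0x180010c02800134840, 0x1a4110402904834844, 0x120000000, 0x1841104029041348c0, 0x1a4114402804134844, 0, 0x24004104800, 0x84910c06900814840, 0x1840104268048100c0, 0x4000024000, 0x100104900000, 0x24004124800, 0, 0x100000800004004080, 4, 0x100000000, 0x800000, 32, 0x4000000, 0x900000]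
theorem d2b_rows : H60.RowsDone d2 d2b d2b_W d2b_C d2b_X := H60.rowsDone_of (by decide +kernel)
noncomputable def d2_g : H54.Tr := (.node 3 (.node 1 (.node 0 (.leaf 0x17161514131211100f0e0d0c0b0a09080706050403020100)
 (.leaf 0x170c071413101112090e0b160d0a0f041506030805010200))
 (.node 2 (.leaf 0x170b070a060f140504110d0c160e12030213080910011500)
 (.leaf 0x170c0908060704150e10160b0d121402051311010a0f0300)))
 (.node 5 (.node 4 (.leaf 0x170b021413081104030e0c0d160a0512010609100f150700)
 (.leaf 0x170b0e151303070f08020c0d160110090a06120504141100))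
 (.node 6 (.leaf 0x1716071113081404050a0d0c0b0e031215060f1009010200)
 (.leaf 0x1716020e13040a0809140d0c0b110f100106031205150700))))
noncomputable def d2_h : H54.Tr := (.node 0 (.leaf 0x171609120d0e0307150413060b050201080c11140a0f1000)
 (.node 1 (.leaf 0x170c1510060a081403040d160b1209110213050e0f070100)
 (.leaf 0x1714151613050c0f100b0a110e0d04030706120908020100)))
noncomputable def d2_l : H60.Lvs :=
  .cons 6 [0, 3] <|
  .cons 11 [0, 20674, 194, 5] <|
  .cons 1 [0, 6, 0x7185103081, 0x1c3081, 0x185103081, 7, 0x183081, 0x1c5103081, 28996, 0x1c6144, 0x5103081, 0x7183081, 324, 12417, 24900, 454] <|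
  .nil
theorem d2_memb : H60.membT H54.c24 H54.chM22 d2_g d2_h d2 = true := by decide +kernel
theorem d2_rules : H60.rulesOk (H60.actT H54.c24 d2_g) H54.chM22.baseList d2 0 (d2.n + 1) = true := by decide +kernel
theorem d2_fus : H60.fusOk (H60.actT H54.c24 d2_g) (H60.actT H54.c24 d2_h) H54.chM22.baseList d2 = true := by decide +kernel
theorem d2_low : H60.lowT H54.c24 d2_g d2 d2_l = true := by decide +kernel
theorem d2_real : d2.Real ↥Spor.M22 :=
  H60.real_of_chain_id H54.X24 (H54.K24_sub Spor.M22) H54.goodTop_M22 d2a_fmt d2_memb d2_rules d2_fus d2_low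
theorem d2_gen : H60.GenB ↥Spor.M22 2 1 :=
  H60.genB_of_cert d2a_fmt d2_real 3465 (H15.card_M22.trans (by decide +kernel)) (by decide +kernel) rfl rfl
    (As := d2a_A) (by decide +kernel) d2a_cert rfl d2a_rows
theorem d2_exp : H60.ExpB ↥Spor.M22 2 2 :=
  H60.expB_of_cert d2b_fmt d2_real 3465 (H15.card_M22.trans (by decide +kernel)) (by decide +kernel) 2 rfl rfl
    (by decide +kernel) d2b_cert rfl d2b_rows

noncomputable def d3 : H60.Pc := ⟨3, 2, 0x2040c0020180000000101800000,
  22, 0x3fffff, 14, 65, 12, 4095, 14, 24, 0xffffff, 1,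
  [0x2000001000000],
  [0x2041082041000000]⟩
noncomputable def d3a : H60.Lp := ⟨3, 1, 2, 5, 9⟩
theorem d3a_fmt : H60.fmtOk d3 d3a 3 = true := by decide +kernel
noncomputable def d3a_r0 : H60.Rels :=
  .cons 1 8322 0 32 <|
  .cons 1 4161 0 2064 <|
  .nil
theorem d3a_r0_ok : H60.relsOk d3 d3a d3a_r0 = true := by decide +kernel
noncomputable def d3a_W : List ℕ := d3a_r0.ws
theorem d3a_cert : H60.Certified d3 d3a d3a_W := H60.certified_of d3a_r0_ok
noncomputable def d3a_A : List ℕ := [256]
noncomputable def d3a_C : List ℕ := [0, 0, 0]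
noncomputable def d3a_X : List ℕ := [0, 0, 8, 0, 1, 40]
theorem d3a_rows : H60.RowsDone d3 d3a (d3a_A ++ d3a_W) d3a_C d3a_X := H60.rowsDone_of (by decide +kernel)
noncomputable def d3b : H60.Lp := ⟨9, 3, 4, 5, 9⟩
theorem d3b_fmt : H60.fmtOk d3 d3b 1 = true := by decide +kernel
noncomputable def d3b_r0 : H60.Rels :=
  .cons 0 130 66 393216 <|
  .nil
theorem d3b_r0_ok : H60.relsOk d3 d3b d3b_r0 = true := by decide +kernel
noncomputable def d3b_W : List ℕ := d3b_r0.ws
theorem d3b_cert : H60.Certified d3 d3b d3b_W := H60.certified_of d3b_r0_ok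
noncomputable def d3b_A : List ℕ := []
noncomputable def d3b_C : List ℕ := [0, 256, 0x100000]
noncomputable def d3b_X : List ℕ := [0, 0, 0, 0, 8, 0]
theorem d3b_rows : H60.RowsDone d3 d3b d3b_W d3b_C d3b_X := H60.rowsDone_of (by decide +kernel)
noncomputable def d3_g : H54.Tr := (.node 0 (.leaf 0x17161514131211100f0e0d0c0b0a09080706050403020100)
 (.node 1 (.leaf 0x1708150513040b0d140e03110c12160902070f0a10060100)
 (.leaf 0x170a130f0e02110d0515030c0b0704121609140610080100)))
noncomputable def d3_h : H54.Tr := (.leaf 0x1708140e05090d0c150f0b10030a04070616130211120100)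
noncomputable def d3_l : H60.Lvs :=
  .cons 3 [0, 130, 2] <|
  .cons 2 [0, 8321, 8257] <|
  .nil
theorem d3_memb : H60.membT H54.c24 H54.chM22 d3_g d3_h d3 = true := by decide +kernel
theorem d3_rules : H60.rulesOk (H60.actT H54.c24 d3_g) H54.chM22.baseList d3 0 (d3.n + 1) = true := by decide +kernel
theorem d3_fus : H60.fusOk (H60.actT H54.c24 d3_g) (H60.actT H54.c24 d3_h) H54.chM22.baseList d3 = true := by decide +kernel
theorem d3_low : H60.lowT H54.c24 d3_g d3 d3_l = true := by decide +kernel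
theorem d3_real : d3.Real ↥Spor.M22 :=
  H60.real_of_chain_id H54.X24 (H54.K24_sub Spor.M22) H54.goodTop_M22 d3a_fmt d3_memb d3_rules d3_fus d3_low
theorem d3_gen : H60.GenB ↥Spor.M22 3 1 :=
  H60.genB_of_cert d3a_fmt d3_real 49280 (H15.card_M22.trans (by decide +kernel)) (by decide +kernel) rfl rfl
    (As := d3a_A) (by decide +kernel) d3a_cert rfl d3a_rows
theorem d3_exp : H60.ExpB ↥Spor.M22 3 1 :=
  H60.expB_of_cert d3b_fmt d3_real 49280 (H15.card_M22.trans (by decide +kernel)) (by decide +kernel) 1 rfl rfl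
    (by decide +kernel) d3b_cert rfl d3b_rows

end H60.M22
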